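import Mathlib
import Cfsg.Agent.H618.KS.Nine

/-!
# Blocks with an elementary abelian defect group of order 16 and free inertial quotient

`a = (P, e)` maximal, `autG a` acts freely on the nonidentity elements of `P`.

* `rank_one_free` : every nontrivial subsection has rank one;
* `phi_reps` : `phi η` in terms of representatives of the orbits;
* `int_orb` : integrality for an arbitrary subgroup.
-/

set_option autoImplicit false
set_option linter.unusedSectionVars false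

open Cfsg
open scoped ComplexConjugate

namespace Cfsg.Agent.H696.KS

open Cfsg.Agent.Blocks.Blau Cfsg.Agent.Blocks.Local
open Cfsg.Agent.H651 Cfsg.Agent.H649 Cfsg.Agent.Characters
open Cfsg.Agent.H652.DoubleCount Cfsg.Agent.H645.FusCount Cfsg.Agent.H650
open Cfsg.Agent.H645.TraceForm Cfsg.Agent.H645.LocMono Cfsg.Agent.H645.Watanabe
open Cfsg.Agent.H652.Ctr Cfsg.Agent.H652.CtrOne Cfsg.Agent.H613.RegGram
open Cfsg.Agent.H613.Contrib Cfsg.Agent.H613.ContribVal
open Cfsg.Agent.H617.AbelRank Cfsg.Agent.H617.StarAut Cfsg.Agent.H617.StarCols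
open Cfsg.Agent.H617.RankOneCol
open Cfsg.Agent.H618 Cfsg.Agent.H618.StarGen Cfsg.Agent.H618.LemmaR

universe u

variable {G : Type u} [Group G] [Fintype G] {M : Ideal AlgInt} [M.IsPrime]

/-- The columns: `d χ * d ψ` is `16` times the contribution of `u`. -/
def Col (M : Ideal AlgInt) [M.IsPrime] {a : BrauerPairIdx G} (u : a.1) (d : IrrCharacter G → ℤ) : Prop :=
  ∀ χ ψ : IrrCharacter G, ((d χ * d ψ : ℤ) : ℂ) =
    16 * ctr 2 (u : G) (bP 2 M a (u : G)) (χ : G → ℂ) (ψ : G → ℂ)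

section

variable (hM : IsPModular 2 M) {B : Set (IrrCharacter G)} {a : BrauerPairIdx G}
  (hmax : IsMaximalBrauerPair 2 M B a.1 a.2) (hab : ∀ x ∈ a.1, ∀ y ∈ a.1, x * y = y * x)

include hM hmax hab

theorem rank_one_free (hfree : ∀ α ∈ autG a, ∀ v : a.1, v ≠ 1 → α v = v → α = 1) {v : a.1} (hv : v ≠ 1) :
    blockRank 2 (bP 2 M a (v : G)).2 = 1 := by
  refine rank_one_at hM hmax hab v.2 fun t ht htv x hx => ?_
  obtain ⟨α, hα, h1⟩ := exists_autG hM hmax hab ht
  have h2 : α = 1 := by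
    refine hfree α hα v hv (Subtype.ext ?_)
    rw [h1, htv]
  have h3 := h1 ⟨x, hx⟩
  rw [h2, MulAut.one_apply] at h3
  exact h3.symm

theorem exists_Col (hcard : Nat.card a.1 = 16) (hel : ∀ x ∈ a.1, x * x = 1)
    (hfree : ∀ α ∈ autG a, ∀ v : a.1, v ≠ 1 → α v = v → α = 1) {v : a.1} (hv : v ≠ 1) :
    ∃ d : IrrCharacter G → ℤ, Col M v d := by
  obtain ⟨d, hd⟩ := exists_col hM hmax hab v.2 (hel v v.2) (rank_one_free hM hmax hab hfree hv)
  rw [hcard] at hd
  refine ⟨d, fun χ ψ => ?_⟩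
  have h1 := hd χ ψ
  push_cast
  rw [← h1]
  norm_num

theorem Col.ne_zero {v : a.1} {d : IrrCharacter G → ℤ} (hd : Col M v d) {χ : IrrCharacter G} (hχ : χ ∈ B) :
    d χ ≠ 0 := by
  intro h0
  have h1 := hd χ χ
  rw [h0, mul_zero, Int.cast_zero] at h1
  rcases mul_eq_zero.1 h1.symm with h2 | h2
  · norm_num at h2
  · exact ctr_self_ne_zero hM hmax hab v.2 hχ h2

theorem Col.norm [Fintype B] (hfree : ∀ α ∈ autG a, ∀ v : a.1, v ≠ 1 → α v = v → α = 1) {v : a.1} (hv : v ≠ 1)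
    {d : IrrCharacter G → ℤ} (hd : Col M v d) : ∑ χ : B, d χ * d χ = 16 := by
  have h1 := sum_ctr_self hM hmax v.2
  rw [rank_one_free hM hmax hab hfree hv] at h1
  have h2 : ((∑ χ : B, d χ * d χ : ℤ) : ℂ) = ((16 : ℤ) : ℂ) := by
    rw [Int.cast_sum]
    have h3 : ∀ χ : B, ((d χ * d χ : ℤ) : ℂ) =
        16 * ctr 2 (v : G) (bP 2 M a (v : G)) (χ : G → ℂ) (χ : G → ℂ) := fun χ => hd χ χ
    rw [Finset.sum_congr rfl fun χ _ => h3 χ, ← Finset.mul_sum, h1]
    norm_num
  exact_mod_cast h2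

theorem Col.orth [Fintype B] {u v : a.1} {d d' : IrrCharacter G → ℤ} (hd : Col M u d) (hd' : Col M v d')
    (h : v ∉ MulAction.orbit (autG a) u) (hne : ∃ χ, χ ∈ B) : ∑ ψ : B, d ψ * d' ψ = 0 := by
  obtain ⟨χ, hχ⟩ := hne
  have h1 := sum_ctr_ne hM hmax hab h (χ' := χ) hχ
  have h2 : ((∑ ψ : B, (d χ * d ψ) * (d' χ * d' ψ) : ℤ) : ℂ) = 0 := by
    rw [Int.cast_sum]
    rw [← mul_zero (16 * 16 : ℂ), ← h1, Finset.mul_sum]
    refine Finset.sum_congr rfl fun ψ _ => ?_
    have h3 := congrArg conj (hd' χ ψ)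
    rw [map_mul, map_ofNat, map_intCast] at h3
    rw [Int.cast_mul, hd, h3]
    ring
  have h4 : ∑ ψ : B, (d χ * d ψ) * (d' χ * d' ψ) = 0 := by exact_mod_cast h2
  have h5 : (d χ * d' χ) * ∑ ψ : B, d ψ * d' ψ = 0 := by
    rw [← h4, Finset.mul_sum]
    exact Finset.sum_congr rfl fun ψ _ => by ring
  rcases mul_eq_zero.1 h5 with h6 | h6
  · rcases mul_eq_zero.1 h6 with h7 | h7
    · exact absurd h7 (Col.ne_zero hM hmax hab hd hχ)
    · exact absurd h7 (Col.ne_zero hM hmax hab hd' hχ)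
  · exact h6

/-- `phi` in terms of representatives of the orbits. -/
theorem phi_reps {ι : Type*} [Fintype ι] {u : ι → a.1} (hu1 : ∀ i, u i ≠ 1)
    (hcov : ∀ v : a.1, v ≠ 1 → ∃ i, v ∈ MulAction.orbit (autG a) (u i))
    (hdis : ∀ i j, u j ∈ MulAction.orbit (autG a) (u i) → i = j)
    {η : a.1 → ℂ} (hη : Inv a η) {χ ψ : G → ℂ} (hχ : IsClassFunction G χ) (hψ : IsClassFunction G ψ) :
    phi 2 M η χ ψ = η 1 * ctr 2 ((1 : a.1) : G) (bP 2 M a ((1 : a.1) : G)) χ ψ +
      ∑ i, η (u i) * ctr 2 (u i : G) (bP 2 M a (u i : G)) χ ψ := by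
  classical
  have := Fintype.ofFinite a.1
  have key : ∀ v : a.1, η v = η 1 * dl 1 v + ∑ i, η (u i) * dl (u i) v := by
    intro v
    by_cases hv : v = 1
    · rw [hv, dl_self, Finset.sum_eq_zero fun i _ => ?_]
      · ring
      · rw [dl_of_notMem (one_notMem (hu1 i)), mul_zero]
    · obtain ⟨i, hi⟩ := hcov v hv
      rw [dl_of_notMem (notMem_one hv), mul_zero, zero_add, Finset.sum_eq_single i]
      · obtain ⟨α, hα, rfl⟩ := mem_orbit_iff.1 hi
        rw [hη α hα, dl_of_mem hi, mul_one]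
      · intro j _ hj
        rw [dl_of_notMem, mul_zero]
        intro h
        refine hj (hdis j i ?_)
        rw [← MulAction.orbit_eq_iff] at hi h
        rw [← h, hi]
        exact MulAction.mem_orbit_self _
      · exact fun h => absurd (Finset.mem_univ i) h
  rw [phi_eq hM hmax hab hη hχ hψ, ← phi_dl hM hmax hab 1 hχ hψ, phi_eq hM hmax hab (inv_dl 1) hχ hψ,
    Finset.mul_sum]
  have h2 : ∀ i, η (u i) * ctr 2 (u i : G) (bP 2 M a (u i : G)) χ ψ =
      ∑ v : a.1, η (u i) * (dl (u i) v * ((osz a v : ℂ)⁻¹ * ctr 2 (v : G) (bP 2 M a (v : G)) χ ψ)) := by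
    intro i
    rw [← phi_dl hM hmax hab (u i) hχ hψ, phi_eq hM hmax hab (inv_dl (u i)) hχ hψ, Finset.mul_sum]
  rw [Finset.sum_congr rfl fun i _ => h2 i, Finset.sum_comm, ← Finset.sum_add_distrib]
  refine Finset.sum_congr rfl fun v _ => ?_
  rw [key v, add_mul, Finset.sum_mul]
  congr 1
  · ring
  · exact Finset.sum_congr rfl fun i _ => by ring

omit hM hmax hab in
/-- The indicator of a subgroup times the index is a generalized character. -/
theorem isGen_sub {P : Type*} [Group P] [Finite P] (hab' : ∀ x y : P, x * y = y * x) (K : Subgroup P)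
    [DecidablePred (· ∈ K)] : IsGeneralizedCharacter P (fun v => if v ∈ K then (K.index : ℂ) else 0) := by
  classical
  have hcomm : ∀ x y : P, x⁻¹ * (y * x * y⁻¹) ∈ K := by
    intro x y
    rw [hab' y x, mul_assoc, mul_inv_cancel, mul_one, inv_mul_cancel]
    exact K.one_mem
  have hfin : Finite (ann K) := by
    have hc : Nat.card (ann K) ≠ 0 := by
      rw [card_ann hcomm]
      exact K.index_ne_zero_of_finite
    exact (Nat.card_ne_zero.1 hc).2
  have := Fintype.ofFinite (ann K)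
  have hκ' : ∀ v : P, (if v ∈ K then (K.index : ℂ) else 0) =
      ∑ l : ann K, (((l : P →* ℂˣ) v : ℂˣ) : ℂ) := by
    intro v
    rw [Cfsg.Agent.H645.FourierKer.sum_ann_apply hab' K v, ← Nat.card_eq_fintype_card,
      card_ann hcomm]
  have h1 : (fun v : P => if v ∈ K then (K.index : ℂ) else 0) = ∑ l : ann K,
      fun x : P => (((l : P →* ℂˣ) x : ℂˣ) : ℂ) := by
    funext x
    rw [Finset.sum_apply, hκ']
  rw [h1]
  refine Finset.sum_induction _ _ (fun _ _ => Brauer.isGeneralizedCharacter_add)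
    Brauer.isGeneralizedCharacter_zero fun l _ => ?_
  exact Brauer.isGeneralizedCharacter_of_isCharacter
    (CharDeep.LinearChar.isCharacter_of_hom _)

/-- **Integrality for an arbitrary subgroup.** -/
theorem int_orb [Fintype a.1] (K : Subgroup a.1) [DecidablePred (· ∈ K)] (χ ψ : IrrCharacter G) :
    ∃ n : ℤ, (n : ℂ) = Nat.card (autG a) * (K.index : ℂ) * ∑ v : a.1, (if v ∈ K then
      ((osz a v : ℂ)⁻¹ * ctr 2 (v : G) (bP 2 M a (v : G)) (χ : G → ℂ) (ψ : G → ℂ)) else 0) := by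
  classical
  have hab' : ∀ x y : a.1, x * y = y * x := fun x y => Subtype.ext (hab x x.2 y y.2)
  have hcχ := Core.isIrr_isClassFunction χ.2
  have hcψ := Core.isIrr_isClassFunction ψ.2
  have : Fintype (autG a) := Fintype.ofFinite _
  set η : a.1 → ℂ := fun v => ∑ α : autG a, if ((α : MulAut a.1) v) ∈ K then (K.index : ℂ) else 0 with hη
  have hinv : Inv a η := by
    intro β hβ v
    simp only [hη]
    refine Fintype.sum_equiv (Equiv.mulRight (⟨β, hβ⟩ : autG a)) _ _ fun α => ?_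
    rfl
  have hgen : IsGeneralizedCharacter a.1 η := by
    have h1 : η = ∑ α : autG a, fun v : a.1 => if ((α : MulAut a.1) v) ∈ K then (K.index : ℂ) else 0 := by
      funext v
      rw [Finset.sum_apply]
    rw [h1]
    refine Finset.sum_induction _ _ (fun _ _ => Brauer.isGeneralizedCharacter_add)
      Brauer.isGeneralizedCharacter_zero fun α _ => ?_
    have h2 := isGen_sub hab' (K.comap (α : MulAut a.1).toMonoidHom)
    rw [Subgroup.index_comap_of_surjective K (α : MulAut a.1).surjective] at h2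
    have h5 : (fun v : a.1 => if ((α : MulAut a.1) v) ∈ K then (K.index : ℂ) else 0) =
        fun v : a.1 => if v ∈ K.comap (α : MulAut a.1).toMonoidHom then (K.index : ℂ) else 0 := by
      funext v
      refine if_congr ?_ rfl rfl
      rfl
    rw [h5]
    exact h2
  obtain ⟨n, hn⟩ := int_phi hM hmax hab hinv hgen χ ψ
  refine ⟨n, ?_⟩
  rw [← hn, phi_eq hM hmax hab hinv hcχ hcψ]
  have h3 : ∀ α : autG a, ∑ v : a.1, (if ((α : MulAut a.1) v) ∈ K then (K.index : ℂ) else 0) *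
      ((osz a v : ℂ)⁻¹ * ctr 2 (v : G) (bP 2 M a (v : G)) (χ : G → ℂ) (ψ : G → ℂ)) =
      (K.index : ℂ) * ∑ v : a.1, (if v ∈ K then
      ((osz a v : ℂ)⁻¹ * ctr 2 (v : G) (bP 2 M a (v : G)) (χ : G → ℂ) (ψ : G → ℂ)) else 0) := by
    intro α
    rw [Finset.mul_sum]
    refine Fintype.sum_equiv (α : MulAut a.1).toEquiv _ _ fun v => ?_
    have e1 : osz a ((α : MulAut a.1) v) = osz a v := by rw [osz, osz, orbit_aut α.2]
    have e2 := ctr_autG hM hmax hab α.2 v hcχ hcψ
    change _ = (K.index : ℂ) * (if ((α : MulAut a.1) v) ∈ K then _ else 0)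
    by_cases hv : ((α : MulAut a.1) v) ∈ K
    · rw [if_pos hv, if_pos hv]
      change _ = (K.index : ℂ) * ((osz a ((α : MulAut a.1) v) : ℂ)⁻¹ * ctr 2 (((α : MulAut a.1) v : a.1) : G) (bP 2 M a (((α : MulAut a.1) v : a.1) : G)) (χ : G → ℂ) (ψ : G → ℂ))
      rw [e1, e2]
    · rw [if_neg hv, if_neg hv, zero_mul, mul_zero]
  have h4 : ∀ v : a.1, η v * ((osz a v : ℂ)⁻¹ * ctr 2 (v : G) (bP 2 M a (v : G)) (χ : G → ℂ) (ψ : G → ℂ)) =
      ∑ α : autG a, (if ((α : MulAut a.1) v) ∈ K then (K.index : ℂ) else 0) *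
      ((osz a v : ℂ)⁻¹ * ctr 2 (v : G) (bP 2 M a (v : G)) (χ : G → ℂ) (ψ : G → ℂ)) := by
    intro v
    rw [Finset.sum_mul]
  rw [Finset.sum_congr rfl fun v _ => h4 v, Finset.sum_comm, Finset.sum_congr rfl fun α _ => h3 α,
    Finset.sum_const, Finset.card_univ, nsmul_eq_mul, Nat.card_eq_fintype_card]
  ring

end

end Cfsg.Agent.H696.KS
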