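import Mathlib
import Cfsg.Agent.H696.KS.Star

/-!
# Vanishing on the 2-singular elements, and the star congruences for inertial index five
-/

set_option autoImplicit false
set_option linter.unusedSectionVars false

open Cfsg
open scoped ComplexConjugate

namespace Cfsg.Agent.H696.KS

open Cfsg.Agent.Blocks.Blau Cfsg.Agent.Blocks.Local
open Cfsg.Agent.H651 Cfsg.Agent.H649 Cfsg.Agent.Characters
open Cfsg.Agent.H652.DoubleCount Cfsg.Agent.H645.FusCount Cfsg.Agent.H650
open Cfsg.Agent.H645.TraceForm Cfsg.Agent.H645.LocMono Cfsg.Agent.H645.Watanabe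
open Cfsg.Agent.H652.Ctr Cfsg.Agent.H652.CtrOne Cfsg.Agent.H613.RegGram
open Cfsg.Agent.H613.Contrib Cfsg.Agent.H613.ContribVal
open Cfsg.Agent.H617.AbelRank Cfsg.Agent.H617.StarAut Cfsg.Agent.H617.StarCols
open Cfsg.Agent.H617.RankOneCol
open Cfsg.Agent.H618 Cfsg.Agent.H618.StarGen Cfsg.Agent.H618.LemmaR
open Cfsg.Agent.H617.StarFive

universe u

variable {G : Type u} [Group G] [Fintype G]

/-- A class function whose products with the irreducible characters only depend on the 2-regular elements vanishes on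
the 2-singular ones. -/
theorem sing_eq_zero {Θ : G → ℂ} (hΘ : IsClassFunction G Θ)
    (h : ∀ ψ : IrrCharacter G, classInner Θ (ψ : G → ℂ) = rg 2 Θ (ψ : G → ℂ)) {g : G} (hg : 2 ∣ orderOf g) :
    Θ g = 0 := by
  have := Core.finite_irr (G := G)
  have := Fintype.ofFinite (IrrCharacter G)
  have h1 : IsClassFunction G (Θ - regPart 2 Θ) := by
    intro x y
    rw [Pi.sub_apply, Pi.sub_apply, hΘ, regPart_isClassFunction hΘ]
  have h2 := Core.classFunction_eq_sum h1
  have h3 : Θ - regPart 2 Θ = 0 := by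
    rw [h2]
    refine Finset.sum_eq_zero fun ψ _ => ?_
    rw [Core.classInner_sub_left, h ψ, rg_eq_classInner, sub_self, zero_smul]
  have h4 := congrFun h3 g
  rw [Pi.sub_apply, regPart_of_dvd hg, sub_zero] at h4
  exact h4

variable {M : Ideal AlgInt} [M.IsPrime]

section

variable (hM : IsPModular 2 M) {B : Set (IrrCharacter G)} {a : BrauerPairIdx G}
  (hmax : IsMaximalBrauerPair 2 M B a.1 a.2) (hab : ∀ x ∈ a.1, ∀ y ∈ a.1, x * y = y * x)

include hM hmax hab

/-- The total. -/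
theorem total {ι : Type*} [Fintype ι] {u : ι → a.1} (hu1 : ∀ i, u i ≠ 1)
    (hcov : ∀ v : a.1, v ≠ 1 → ∃ i, v ∈ MulAction.orbit (autG a) (u i))
    (hdis : ∀ i j, u j ∈ MulAction.orbit (autG a) (u i) → i = j)
    {χ : IrrCharacter G} (hχ : χ ∈ B) (ψ : IrrCharacter G) [Decidable (χ = ψ)] :
    (if χ = ψ then (1 : ℂ) else 0) =
      ctr 2 ((1 : a.1) : G) (bP 2 M a ((1 : a.1) : G)) (χ : G → ℂ) (ψ : G → ℂ) +
      ∑ i, ctr 2 (u i : G) (bP 2 M a (u i : G)) (χ : G → ℂ) (ψ : G → ℂ) := by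
  rw [← phi_one hM hmax hab hχ ψ, phi_reps hM hmax hab hu1 hcov hdis (inv_const 1)
    (Core.isIrr_isClassFunction χ.2) (Core.isIrr_isClassFunction ψ.2), one_mul]
  congr 1
  exact Finset.sum_congr rfl fun i _ => by rw [one_mul]

/-- **Vanishing.** -/
theorem vanish [Fintype B] {ι : Type*} [Fintype ι] {u : ι → a.1} (hu1 : ∀ i, u i ≠ 1)
    (hcov : ∀ v : a.1, v ≠ 1 → ∃ i, v ∈ MulAction.orbit (autG a) (u i))
    (hdis : ∀ i j, u j ∈ MulAction.orbit (autG a) (u i) → i = j)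
    {d : ι → IrrCharacter G → ℤ} (hd : ∀ i, Col M (u i) (d i)) {x : B → ℤ}
    (h0 : ∀ i, ∑ χ : B, x χ * d i χ = 0) {g : G} (hg : 2 ∣ orderOf g) :
    ∑ χ : B, (x χ : ℂ) * (χ : G → ℂ) g = 0 := by
  classical
  set Θ : G → ℂ := ∑ χ : B, (x χ : ℂ) • (χ : G → ℂ) with hΘ
  have hcl : IsClassFunction G Θ := by
    intro y z
    rw [hΘ, Finset.sum_apply, Finset.sum_apply]
    refine Finset.sum_congr rfl fun χ _ => ?_
    rw [Pi.smul_apply, Pi.smul_apply, Core.isIrr_isClassFunction χ.1.2]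
  have hgoal : ∀ g, Θ g = ∑ χ : B, (x χ : ℂ) * (χ : G → ℂ) g := by
    intro g
    rw [hΘ, Finset.sum_apply]
    rfl
  rw [← hgoal]
  refine sing_eq_zero hcl (fun ψ => ?_) hg
  have e1 : classInner Θ (ψ : G → ℂ) = ∑ χ : B, (x χ : ℂ) * (if (χ : IrrCharacter G) = ψ then 1 else 0) := by
    rw [hΘ, Core.classInner_sum_left]
    refine Finset.sum_congr rfl fun χ _ => ?_
    rw [Core.classInner_smul_left]
    congr 1
    split_ifs with h
    · rw [h]; exact Core.classInner_irr_self ψ.2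
    · exact Core.classInner_irr_ne χ.1.2 ψ.2 fun h' => h (Subtype.ext h')
  have e2 : rg 2 Θ (ψ : G → ℂ) = ∑ χ : B, (x χ : ℂ) * rg 2 (χ : G → ℂ) (ψ : G → ℂ) := by
    rw [rg_eq_classInner]
    have h1 : regPart 2 Θ = ∑ χ : B, (x χ : ℂ) • regPart 2 (χ : G → ℂ) := by
      funext z
      rw [Finset.sum_apply]
      by_cases hz : 2 ∣ orderOf z
      · rw [regPart_of_dvd hz]
        refine (Finset.sum_eq_zero fun χ _ => ?_).symm
        rw [Pi.smul_apply, regPart_of_dvd hz, smul_zero]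
      · rw [regPart_of_not_dvd hz, hΘ, Finset.sum_apply]
        refine Finset.sum_congr rfl fun χ _ => ?_
        rw [Pi.smul_apply, Pi.smul_apply, regPart_of_not_dvd hz]
    rw [h1, Core.classInner_sum_left]
    refine Finset.sum_congr rfl fun χ _ => ?_
    rw [Core.classInner_smul_left, rg_eq_classInner]
  rw [e1, e2, ← sub_eq_zero, ← Finset.sum_sub_distrib]
  by_cases hψ : ψ ∈ B
  · have h2 : ∀ χ : B, (x χ : ℂ) * (if (χ : IrrCharacter G) = ψ then 1 else 0) -
        (x χ : ℂ) * rg 2 (χ : G → ℂ) (ψ : G → ℂ) =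
        ∑ i, (x χ : ℂ) * ((d i χ : ℂ) * (d i ψ : ℂ)) / 16 := by
      intro χ
      have h3 := total hM hmax hab hu1 hcov hdis χ.2 ψ
      have h4 := ctr_one hM hmax hab χ.2 ψ
      rw [show (((1 : a.1) : G)) = 1 from rfl, h4] at h3
      rw [h3]
      have h5 : ∀ i, (x χ : ℂ) * ((d i χ : ℂ) * (d i ψ : ℂ)) / 16 =
          (x χ : ℂ) * ctr 2 (u i : G) (bP 2 M a (u i : G)) (χ : G → ℂ) (ψ : G → ℂ) := by
        intro i
        have h6 := hd i χ ψ
        push_cast at h6
        rw [h6]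
        ring
      rw [Finset.sum_congr rfl fun i _ => h5 i, ← Finset.mul_sum]
      ring
    rw [Finset.sum_congr rfl fun χ _ => h2 χ, Finset.sum_comm]
    refine Finset.sum_eq_zero fun i _ => ?_
    have h7 : ((∑ χ : B, x χ * d i χ : ℤ) : ℂ) = 0 := by rw [h0 i, Int.cast_zero]
    push_cast at h7
    have h8 : ∑ χ : B, (x χ : ℂ) * ((d i χ : ℂ) * (d i ψ : ℂ)) / 16 =
        (∑ χ : B, (x χ : ℂ) * (d i χ : ℂ)) * ((d i ψ : ℂ) / 16) := by
      rw [Finset.sum_mul]
      exact Finset.sum_congr rfl fun χ _ => by ring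
    rw [h8, h7, zero_mul]
  · refine Finset.sum_eq_zero fun χ _ => ?_
    rw [if_neg (fun h : (χ : IrrCharacter G) = ψ => hψ (h ▸ χ.2)), rg_eq_zero hM hmax.1.2.1 χ.2 hψ]
    ring

/-- free orbits -/
theorem osz_free (hfree : ∀ α ∈ autG a, ∀ v : a.1, v ≠ 1 → α v = v → α = 1) {v : a.1} (hv : v ≠ 1) :
    osz a v = Nat.card (autG a) := by
  have h5 : osz a v * Nat.card (MulAction.stabilizer (autG a) v) = Nat.card (autG a) := by
    rw [osz, ← Nat.card_prod]
    exact Nat.card_congr (MulAction.orbitProdStabilizerEquivGroup (autG a) v)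
  have h1 : MulAction.stabilizer (autG a) v = ⊥ := by
    rw [eq_bot_iff]
    intro α hα
    rw [Subgroup.mem_bot]
    exact Subtype.ext (hfree α α.2 v hv hα)
  rw [h1, Subgroup.card_bot, mul_one] at h5
  exact h5

omit hM hmax hab in
theorem osz_one : osz a (1 : a.1) = 1 := by
  rw [osz, Nat.card_eq_one_iff_unique]
  refine ⟨⟨fun x y => ?_⟩, ⟨⟨1, MulAction.mem_orbit_self _⟩⟩⟩
  have h : ∀ x : MulAction.orbit (autG a) (1 : a.1), (x : a.1) = 1 := by
    rintro ⟨x, hx⟩
    by_contra h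
    exact notMem_one h hx
  exact Subtype.ext (by rw [h x, h y])

/-- **The star congruence** for a four-subgroup. -/
theorem int_four (hcard : Nat.card a.1 = 16) (hel : ∀ x : a.1, x * x = 1)
    (hfree : ∀ α ∈ autG a, ∀ v : a.1, v ≠ 1 → α v = v → α = 1) (h5 : Nat.card (autG a) = 5)
    {x y : a.1} (hx : x ≠ 1) (hy : y ≠ 1) (hxy : x * y ≠ 1) (χ ψ : IrrCharacter G) :
    ∃ n : ℤ, (n : ℂ) = 20 * ctr 2 ((1 : a.1) : G) (bP 2 M a ((1 : a.1) : G)) (χ : G → ℂ) (ψ : G → ℂ) +
      4 * (ctr 2 (x : G) (bP 2 M a (x : G)) (χ : G → ℂ) (ψ : G → ℂ) +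
        ctr 2 (y : G) (bP 2 M a (y : G)) (χ : G → ℂ) (ψ : G → ℂ) +
        ctr 2 ((x * y : a.1) : G) (bP 2 M a ((x * y : a.1) : G)) (χ : G → ℂ) (ψ : G → ℂ)) := by
  classical
  have := Fintype.ofFinite a.1
  have hK : ∀ f : a.1 → ℂ, ∑ u : a.1, (if u ∈ adj (adj ⊥ y hel) x hel then f u else 0) =
      f 1 + f y + (f x + f (x * y)) := by
    intro f
    have e1 : y ∉ (⊥ : Subgroup a.1) := fun h => hy (Subgroup.mem_bot.1 h)
    have e2 : x ∉ adj ⊥ y hel := by
      intro h
      rcases mem_adj.1 h with h | h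
      · exact hx (Subgroup.mem_bot.1 h)
      · have h1 := Subgroup.mem_bot.1 h
        apply hxy
        have h2 := congrArg (fun z => x * (z * x)) h1
        simp only [one_mul] at h2
        calc x * y = (x * y) * (x * x) := by rw [hel, mul_one]
          _ = x * (y * x * x) := by group
          _ = x * x := h2
          _ = 1 := hel x
    rw [sum_adj hel e2, sum_adj hel e1]
    simp only [Subgroup.mem_bot]
    rw [Finset.sum_ite_eq' Finset.univ (1 : a.1), if_pos (Finset.mem_univ _)]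
    simp only [mul_one]
    ring
  have hc4 : Nat.card (adj (adj ⊥ y hel) x hel) = 4 := by
    have h1 := hK (fun _ => 1)
    rw [← Finset.sum_filter, Finset.sum_const, nsmul_eq_mul, mul_one] at h1
    have h2 : (Nat.card (adj (adj ⊥ y hel) x hel) : ℂ) = 4 := by
      rw [Nat.card_eq_fintype_card, Fintype.card_subtype, h1]
      norm_num
    exact_mod_cast h2
  have hi : (adj (adj ⊥ y hel) x hel).index = 4 := by
    have h4 := Subgroup.card_mul_index (adj (adj ⊥ y hel) x hel)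
    rw [hc4, hcard] at h4
    omega
  obtain ⟨n, hn⟩ := int_orb hM hmax hab (adj (adj ⊥ y hel) x hel) χ ψ
  refine ⟨n, ?_⟩
  rw [hn, hK, hi, h5, osz_one, osz_free hM hmax hab hfree hx, osz_free hM hmax hab hfree hy,
    osz_free hM hmax hab hfree hxy, h5]
  push_cast
  ring

end

end Cfsg.Agent.H696.KS
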