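import Mathlib

/-!
# Free actions on an elementary abelian group of order 16

* `card_five_or` : a group of automorphisms acting freely, of order divisible by 5, has order 5 or 15;
* `transitive` : order 15;
* `three_orbits` : order 5.
-/

set_option autoImplicit false
set_option linter.unusedSectionVars false

namespace Cfsg.Agent.H696.KS.Orb

variable {P : Type*} [Group P] [Finite P] (hel : ∀ x : P, x * x = 1) (hcard : Nat.card P = 16)
  {E : Subgroup (MulAut P)} (hfree : ∀ α ∈ E, ∀ v : P, v ≠ 1 → α v = v → α = 1)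

theorem mem_orbit {u v : P} : v ∈ MulAction.orbit E u ↔ ∃ α ∈ E, α u = v := by
  constructor
  · rintro ⟨⟨α, hα⟩, h⟩
    exact ⟨α, hα, h⟩
  · rintro ⟨α, hα, h⟩
    exact ⟨⟨α, hα⟩, h⟩

theorem comm (hel : ∀ x : P, x * x = 1) (x y : P) : x * y = y * x := by
  have h1 := hel (x * y)
  have h2 := hel x
  have h3 := hel y
  calc x * y = x * (x * y * (x * y)) * y := by rw [h1, mul_one]
    _ = (x * x) * (y * x) * (y * y) := by simp only [mul_assoc]
    _ = y * x := by rw [h2, h3, one_mul, mul_one]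

include hfree in
theorem card_orbit {v : P} (hv : v ≠ 1) : Nat.card (MulAction.orbit E v) = Nat.card E := by
  have h5 : Nat.card (MulAction.orbit E v) * Nat.card (MulAction.stabilizer E v) = Nat.card E := by
    rw [← Nat.card_prod]
    exact Nat.card_congr (MulAction.orbitProdStabilizerEquivGroup E v)
  have h1 : MulAction.stabilizer E v = ⊥ := by
    rw [eq_bot_iff]
    intro α hα
    rw [Subgroup.mem_bot]
    exact Subtype.ext (hfree α α.2 v hv hα)
  rw [h1, Subgroup.card_bot, mul_one] at h5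
  exact h5

theorem ne_one_of_orbit {u v : P} (hu : u ≠ 1) (hv : v ∈ MulAction.orbit E u) : v ≠ 1 := by
  obtain ⟨α, -, rfl⟩ := mem_orbit.1 hv
  intro h
  exact hu (α.injective (by rw [h, map_one]))

include hfree in
/-- disjoint orbits fill the nonidentity elements -/
theorem cover (hcard : Nat.card P = 16) {ι : Type*} [Fintype ι] {u : ι → P} (hu : ∀ i, u i ≠ 1)
    (hdis : ∀ i j, u j ∈ MulAction.orbit E (u i) → i = j) (h15 : Fintype.card ι * Nat.card E = 15) {v : P}
    (hv : v ≠ 1) : ∃ i, v ∈ MulAction.orbit E (u i) := by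
  classical
  have := Fintype.ofFinite P
  by_contra hno
  push Not at hno
  let s : Finset P := Finset.univ.biUnion fun i : ι => (MulAction.orbit E (u i)).toFinset
  have hs : s.card = 15 := by
    rw [Finset.card_biUnion]
    · rw [Finset.sum_congr rfl fun i _ => show (MulAction.orbit E (u i)).toFinset.card = Nat.card E by
        rw [Set.toFinset_card, ← Nat.card_eq_fintype_card, card_orbit hfree (hu i)]]
      rw [Finset.sum_const, Finset.card_univ, smul_eq_mul, h15]
    · intro i _ j _ hij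
      rw [Function.onFun, Finset.disjoint_left]
      intro x hx hx'
      rw [Set.mem_toFinset] at hx hx'
      refine hij (hdis i j ?_)
      rw [← MulAction.orbit_eq_iff] at hx hx'
      rw [← hx, hx']
      exact MulAction.mem_orbit_self _
  have h1 : (1 : P) ∉ s := by
    intro h
    obtain ⟨i, -, hi⟩ := Finset.mem_biUnion.1 h
    rw [Set.mem_toFinset] at hi
    exact ne_one_of_orbit (hu i) hi rfl
  have h2 : v ∉ insert (1 : P) s := by
    intro h
    rcases Finset.mem_insert.1 h with h | h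
    · exact hv h
    · obtain ⟨i, -, hi⟩ := Finset.mem_biUnion.1 h
      rw [Set.mem_toFinset] at hi
      exact hno i hi
  have h3 : (insert v (insert (1 : P) s)).card = 17 := by
    rw [Finset.card_insert_of_notMem h2, Finset.card_insert_of_notMem h1, hs]
  have h4 := Finset.card_le_univ (insert v (insert (1 : P) s))
  rw [h3, ← Nat.card_eq_fintype_card, hcard] at h4
  omega

include hfree in
/-- the order divides 15 -/
theorem card_dvd (hcard : Nat.card P = 16) : Nat.card E ∣ 15 := by
  classical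
  have := Fintype.ofFinite P
  have : Finite E := inferInstance
  have := Fintype.ofFinite E
  let S : Set P := {v | v ≠ 1}
  have hst : ∀ α : E, ∀ v : P, v ≠ 1 → (α : MulAut P) v ≠ 1 := fun α v hv h =>
    hv ((α : MulAut P).injective (by rw [h, map_one]))
  let act : MulAction E {v : P // v ≠ 1} :=
    { smul := fun α v => ⟨(α : MulAut P) v.1, hst α v.1 v.2⟩
      one_smul := fun v => rfl
      mul_smul := fun α β v => rfl }
  have hstab : ∀ v : {v : P // v ≠ 1}, MulAction.stabilizer E v = ⊥ := by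
    intro v
    rw [eq_bot_iff]
    intro α hα
    rw [Subgroup.mem_bot]
    exact Subtype.ext (hfree α α.2 v.1 v.2 (congrArg Subtype.val hα))
  have h1 := MulAction.card_eq_sum_card_group_div_card_stabilizer E {v : P // v ≠ 1}
  have h2 : Fintype.card {v : P // v ≠ 1} = 15 := by
    rw [Fintype.card_subtype_compl, Fintype.card_subtype_eq, ← Nat.card_eq_fintype_card, hcard]
  rw [h2] at h1
  rw [h1]
  refine Finset.dvd_sum fun i _ => ?_
  have h3 : Fintype.card (MulAction.stabilizer E (Quotient.out i)) = 1 := by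
    rw [← Nat.card_eq_fintype_card, hstab, Subgroup.card_bot]
  rw [h3, Nat.div_one, Nat.card_eq_fintype_card]

theorem exists_pow {τ : MulAut P} (h5 : Nat.card E = 5) (hτ : τ ∈ E) (hτ1 : τ ≠ 1) {α : MulAut P} (hα : α ∈ E) :
    ∃ k : ℕ, k < 5 ∧ α = τ ^ k := by
  have h1 : Subgroup.zpowers (⟨τ, hτ⟩ : E) = ⊤ := by
    have : Fact (Nat.card E).Prime := ⟨by rw [h5]; norm_num⟩
    exact zpowers_eq_top_of_prime_card (p := Nat.card E) rfl (fun h => hτ1 (congrArg Subtype.val h))
  have h2 : (⟨α, hα⟩ : E) ∈ Subgroup.zpowers (⟨τ, hτ⟩ : E) := by rw [h1]; trivial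
  have h3 : (⟨τ, hτ⟩ : E) ^ 5 = 1 := by rw [← h5]; exact pow_card_eq_one'
  obtain ⟨k, hk⟩ := Subgroup.mem_zpowers_iff.1 h2
  have h4 : ((k % 5).toNat : ℤ) = k % 5 := Int.toNat_of_nonneg (Int.emod_nonneg _ (by norm_num))
  refine ⟨(k % 5).toNat, ?_, ?_⟩
  · have := Int.emod_lt_of_pos k (show (0 : ℤ) < 5 by norm_num)
    omega
  · have h6 : (⟨τ, hτ⟩ : E) ^ ((k % 5).toNat) = ⟨α, hα⟩ := by
      rw [← hk, ← zpow_natCast, h4, Int.emod_def, zpow_sub, zpow_mul]
      have h7 : (⟨τ, hτ⟩ : E) ^ (5 : ℤ) = 1 := by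
        have := h3
        rw [← zpow_natCast] at this
        exact this
      rw [h7, one_zpow, inv_one, mul_one]
    exact (congrArg Subtype.val h6).symm

section three

variable {τ : MulAut P} (h5 : Nat.card E = 5) (hτ : τ ∈ E) (hτ1 : τ ≠ 1) {u : P} (hu : u ≠ 1)

include h5 hτ in
theorem pow_five (x : P) : τ (τ (τ (τ (τ x)))) = x := by
  have h3 : (⟨τ, hτ⟩ : E) ^ 5 = 1 := by rw [← h5]; exact pow_card_eq_one'
  have h4 : τ ^ 5 = 1 := congrArg Subtype.val h3
  have h6 : (τ ^ 5) x = x := by rw [h4]; rfl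
  exact h6

include hfree h5 hτ hτ1 hu

/-- the powers move `u` -/
theorem ne_pow : τ u ≠ u ∧ τ (τ u) ≠ u ∧ τ (τ (τ u)) ≠ u ∧ τ (τ (τ (τ u))) ≠ u := by
  have h3 : (⟨τ, hτ⟩ : E) ^ 5 = 1 := by rw [← h5]; exact pow_card_eq_one'
  have h4 : τ ^ 5 = 1 := congrArg Subtype.val h3
  have : Fact (Nat.Prime 5) := ⟨by norm_num⟩
  have key : ∀ k : ℕ, ¬ 5 ∣ k → (τ ^ k) u ≠ u := by
    intro k hk h
    have h6 := hfree (τ ^ k) (E.pow_mem hτ k) u hu h
    have h7 : orderOf τ = 5 := orderOf_eq_prime h4 hτ1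
    exact hk (h7 ▸ orderOf_dvd_of_pow_eq_one h6)
  exact ⟨key 1 (by norm_num), key 2 (by norm_num), key 3 (by norm_num), key 4 (by norm_num)⟩

include hel in
theorem prod_eq : u * τ u * τ (τ u) * τ (τ (τ u)) * τ (τ (τ (τ u))) = 1 := by
  by_contra h
  refine hτ1 (hfree τ hτ _ h ?_)
  have hc := comm hel
  rw [map_mul, map_mul, map_mul, map_mul, pow_five h5 hτ u, hc _ u]
  simp only [mul_assoc]

include hel in
theorem mul_notMem : u * τ u ∉ MulAction.orbit E u := by
  intro h
  obtain ⟨α, hα, h1⟩ := mem_orbit.1 h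
  obtain ⟨k, hk, rfl⟩ := exists_pow h5 hτ hτ1 hα
  obtain ⟨n1, n2, n3, n4⟩ := ne_pow hfree h5 hτ hτ1 hu
  have hc := comm hel
  have h55 := pow_five h5 hτ u
  interval_cases k
  · -- u = u * τ u
    have h2 : u = u * τ u := h1
    have h3 : τ u = 1 := by
      have := congrArg (fun z => u * z) h2
      simp only [← mul_assoc, hel, one_mul] at this
      exact this.symm
    exact hu (τ.injective (by rw [h3, map_one]))
  · have h2 : τ u = u * τ u := h1
    have h3 : u = 1 := by
      have := congrArg (fun z => z * τ u) h2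
      simp only [mul_assoc, hel, mul_one] at this
      exact this.symm
    exact hu h3
  · have h2 : τ (τ u) = u * τ u := h1
    refine n3 ?_
    calc τ (τ (τ u)) = τ (u * τ u) := congrArg τ h2
      _ = τ u * τ (τ u) := map_mul τ _ _
      _ = τ u * (u * τ u) := by rw [h2]
      _ = u := by rw [hc u (τ u), ← mul_assoc, hel, one_mul]
  · have h2 : τ (τ (τ u)) = u * τ u := h1
    have h4 := congrArg τ (congrArg τ h2)
    rw [h55, map_mul, map_mul, h2] at h4
    have h6 : τ (τ u) = τ u := by
      calc τ (τ u) = τ (τ u) * (u * τ u) * (u * τ u) := by rw [mul_assoc, hel, mul_one]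
        _ = u * (u * τ u) := by rw [← h4]
        _ = τ u := by rw [← mul_assoc, hel, one_mul]
    exact n1 (τ.injective h6)
  · have h2 : τ (τ (τ (τ u))) = u * τ u := h1
    have h3 := congrArg τ h2
    rw [h55, map_mul] at h3
    -- u = τ u * τ τ u
    have h4 : τ (τ (τ (τ u))) = τ (τ u) := by
      rw [h2]
      nth_rewrite 1 [h3]
      rw [hc (τ u) (τ (τ u)), mul_assoc, hel, mul_one]
    exact n2 (τ.injective (τ.injective h4))

include hel in
theorem mul_notMem' : u * τ (τ u) ∉ MulAction.orbit E (u * τ u) := by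
  intro h
  obtain ⟨α, hα, h1⟩ := mem_orbit.1 h
  obtain ⟨k, hk, rfl⟩ := exists_pow h5 hτ hτ1 hα
  obtain ⟨n1, n2, n3, n4⟩ := ne_pow hfree h5 hτ hτ1 hu
  have hc := comm hel
  have h55 := pow_five h5 hτ u
  have hp := prod_eq hel hfree h5 hτ hτ1 hu
  have hl : ∀ x y z : P, x * y = x * z → y = z := fun x y z h => mul_left_cancel h
  interval_cases k
  · have h2 : u * τ u = u * τ (τ u) := h1
    exact n1 (τ.injective (mul_left_cancel h2)).symm
  · have h2 : τ (u * τ u) = u * τ (τ u) := h1
    rw [map_mul] at h2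
    exact n1 (mul_right_cancel h2)
  · have h2 : τ (τ (u * τ u)) = u * τ (τ u) := h1
    rw [map_mul, map_mul, hc u] at h2
    exact n3 (mul_left_cancel h2)
  · have h2 : τ (τ (τ (u * τ u))) = u * τ (τ u) := h1
    rw [map_mul, map_mul, map_mul] at h2
    have h3 : u * τ u * τ (τ u) * (τ (τ (τ u)) * τ (τ (τ (τ u)))) = 1 := by
      rw [← mul_assoc]; exact hp
    rw [h2] at h3
    have h4 : τ u = 1 := by
      calc τ u = (u * u) * τ u * (τ (τ u) * τ (τ u)) := by rw [hel, hel, one_mul, mul_one]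
        _ = u * (u * τ u) * (τ (τ u) * τ (τ u)) := by simp only [mul_assoc]
        _ = u * (u * τ u * τ (τ u)) * τ (τ u) := by simp only [mul_assoc]
        _ = (u * τ u * τ (τ u)) * u * τ (τ u) := by rw [hc u (u * τ u * τ (τ u))]
        _ = u * τ u * τ (τ u) * (u * τ (τ u)) := by simp only [mul_assoc]
        _ = 1 := h3
    exact hu (τ.injective (by rw [h4, map_one]))
  · have h2 : τ (τ (τ (τ (u * τ u)))) = u * τ (τ u) := h1
    rw [map_mul, map_mul, map_mul, map_mul, h55, hc _ u] at h2
    exact n2 (τ.injective (τ.injective (mul_left_cancel h2)))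

end three

end Cfsg.Agent.H696.KS.Orb
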