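import Mathlib
import Cfsg.Agent.H696.KS.Cols
import Cfsg.Agent.H696.KS.Orb
import Cfsg.Agent.H261.KS.Val
import Cfsg.Agent.H193.KS.Free
import Cfsg.Agent.H756.KS.Ends
import Cfsg.Agent.H613.KS.Par
import Cfsg.Agent.Blocks.HeightZeroSection

/-!
# S4577: inertial index divisible by 5

`paFive_of : HPar → PAFive`.
-/

set_option autoImplicit false
set_option linter.unusedSectionVars false

open Cfsg
open scoped ComplexConjugate

namespace Cfsg.Agent.H696.KS

open Cfsg.Agent.Blocks.Blau Cfsg.Agent.Blocks.Local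
open Cfsg.Agent.H651 Cfsg.Agent.H649 Cfsg.Agent.Characters
open Cfsg.Agent.H652.DoubleCount Cfsg.Agent.H645.FusCount Cfsg.Agent.H650
open Cfsg.Agent.H645.TraceForm Cfsg.Agent.H645.LocMono Cfsg.Agent.H645.Watanabe
open Cfsg.Agent.H652.Ctr Cfsg.Agent.H652.CtrOne Cfsg.Agent.H613.RegGram
open Cfsg.Agent.H613.Contrib Cfsg.Agent.H613.ContribVal
open Cfsg.Agent.H617.AbelRank Cfsg.Agent.H617.StarAut Cfsg.Agent.H617.StarCols
open Cfsg.Agent.H617.RankOneCol
open Cfsg.Agent.H618 Cfsg.Agent.H618.StarGen Cfsg.Agent.H618.LemmaR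

universe u

section

variable {G : Type u} [Group G] [Fintype G] {M : Ideal AlgInt} [M.IsPrime]

variable (hM : IsPModular 2 M) {B : Set (IrrCharacter G)} {a : BrauerPairIdx G}
  (hmax : IsMaximalBrauerPair 2 M B a.1 a.2) (hab : ∀ x ∈ a.1, ∀ y ∈ a.1, x * y = y * x)
  (hcard : Nat.card a.1 = 16)

include hM hmax hab hcard

/-- The contradiction from a vector with odd sum on the even rows. -/
theorem contra [Fintype B]
    (hpar : ∀ x : IrrCharacter G → ℤ, (∀ χ : IrrCharacter G, χ ∉ B → x χ = 0) →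
      (∀ g : G, Even (orderOf g) → ∑ᶠ χ : IrrCharacter G, (x χ : ℂ) * (χ : G → ℂ) g = 0) →
      Even (∑ᶠ χ ∈ {χ : IrrCharacter G | χ ∈ B ∧ Odd (blockHeight 2 B (χ : G → ℂ))}, x χ))
    {ι : Type*} [Fintype ι] {u : ι → a.1} (hu1 : ∀ i, u i ≠ 1)
    (hcov : ∀ v : a.1, v ≠ 1 → ∃ i, v ∈ MulAction.orbit (autG a) (u i))
    (hdis : ∀ i j, u j ∈ MulAction.orbit (autG a) (u i) → i = j)
    {d : ι → IrrCharacter G → ℤ} (hd : ∀ i, Col M (u i) (d i)) {x : B → ℤ}
    (h0 : ∀ i, ∑ χ : B, x χ * d i χ = 0) (i : ι) (h4 : ∀ χ : B, ¬ (4 : ℤ) ∣ d i χ)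
    (hodd : Odd (∑ χ : B, if Even (d i χ) then x χ else 0)) : False := by
  classical
  have := Core.finite_irr (G := G)
  have := Fintype.ofFinite (IrrCharacter G)
  obtain ⟨X, hX⟩ : ∃ X : IrrCharacter G → ℤ, X = fun χ => if h : χ ∈ B then x ⟨χ, h⟩ else 0 := ⟨_, rfl⟩
  have hX1 : ∀ χ : B, X χ = x χ := fun χ => by rw [hX]; exact dif_pos χ.2
  have hX0 : ∀ χ : IrrCharacter G, χ ∉ B → X χ = 0 := fun χ h => by rw [hX]; exact dif_neg h
  have key := hpar X hX0 (fun g hg => by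
    rw [finsum_eq_sum_of_fintype, sum_eq_sum_coe B]
    · rw [← vanish hM hmax hab hu1 hcov hdis hd h0 (even_iff_two_dvd.1 hg)]
      exact Finset.sum_congr rfl fun χ _ => by rw [hX1]
    · intro ζ hζ
      rw [hX0 ζ hζ, Int.cast_zero, zero_mul])
  have hiff : ∀ χ : B, Even (d i χ) ↔ Odd (blockHeight 2 B ((χ : IrrCharacter G) : G → ℂ)) := by
    intro χ
    have hn : ((d i χ * d i χ : ℤ) : ℂ) = 16 * ctr 2 (u i : G) (bP 2 M a (u i : G))
        ((χ : IrrCharacter G) : G → ℂ) ((χ : IrrCharacter G) : G → ℂ) := hd i χ χ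
    constructor
    · intro he
      have h1 : blockHeight 2 B ((χ : IrrCharacter G) : G → ℂ) ≠ 0 := fun h =>
        (Int.not_even_iff_odd.2 (Cfsg.Agent.H261.KS.odd_of_height_zero hM hmax hcard hab (u i).2 χ.2 h hn)) he
      have h2 : ¬ 2 ≤ blockHeight 2 B ((χ : IrrCharacter G) : G → ℂ) := fun h =>
        h4 χ (Cfsg.Agent.H261.KS.four_dvd_of_height hM hmax hcard hab (u i).2 χ.2 h hn)
      have h3 : blockHeight 2 B ((χ : IrrCharacter G) : G → ℂ) = 1 := by omega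
      rw [h3]
      exact odd_one
    · intro ho
      refine Cfsg.Agent.H618.KS.even_of_height hM hmax hcard hab (u i).2 χ.2 (fun h => ?_) hn
      rw [h] at ho
      exact absurd ho (by decide)
  have hsum : ∑ᶠ χ ∈ {χ : IrrCharacter G | χ ∈ B ∧ Odd (blockHeight 2 B (χ : G → ℂ))}, X χ =
      ∑ χ : B, if Even (d i χ) then x χ else 0 := by
    rw [finsum_mem_def, finsum_eq_sum_of_fintype, sum_eq_sum_coe B]
    · refine Finset.sum_congr rfl fun χ _ => ?_
      by_cases h : Even (d i χ)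
      · rw [if_pos h, Set.indicator_of_mem, hX1]
        exact ⟨χ.2, (hiff χ).1 h⟩
      · rw [if_neg h, Set.indicator_of_notMem]
        exact fun h' => h ((hiff χ).2 h'.2)
    · intro ζ hζ
      rw [Set.indicator_of_notMem]
      exact fun h' => hζ h'.1
  rw [hsum] at key
  exact (Int.not_even_iff_odd.2 hodd) key

/-- **Inertial index divisible by 5.** -/
theorem heights_five (hel : ∀ x ∈ a.1, x * x = 1)
    (h5 : 5 ∣ (Subgroup.centralizer (a.1 : Set G)).relIndex (stab a))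
    (hpar : ∀ x : IrrCharacter G → ℤ, (∀ χ : IrrCharacter G, χ ∉ B → x χ = 0) →
      (∀ g : G, Even (orderOf g) → ∑ᶠ χ : IrrCharacter G, (x χ : ℂ) * (χ : G → ℂ) g = 0) →
      Even (∑ᶠ χ ∈ {χ : IrrCharacter G | χ ∈ B ∧ Odd (blockHeight 2 B (χ : G → ℂ))}, x χ)) :
    ∀ χ ∈ B, blockHeight 2 B (χ : G → ℂ) = 0 := by
  classical
  intro χ₀ hχ₀
  by_contra h0
  have := Core.finite_irr (G := G)
  have : Fintype B := Fintype.ofFinite _
  have hne : ∃ χ, χ ∈ B := ⟨χ₀, hχ₀⟩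
  have hel' : ∀ x : a.1, x * x = 1 := fun x => Subtype.ext (hel x x.2)
  have h5' : 5 ∣ Nat.card (autG a) := by rw [card_autG hM hmax hab]; exact h5
  have h2' : ¬ 2 ∣ Nat.card (autG a) := not_dvd_card_autG hM hmax hab
  have hfree := Cfsg.Agent.H193.KS.free_of_five hel' hcard (autG a) h2' h5'
  have h15 := Orb.card_dvd hfree hcard
  obtain ⟨χ₁, hχ₁, h1⟩ := Blocks.HeightZeroSection.exists_height_zero ⟨χ₀, hχ₀⟩ 2
  have hodd : ∀ {u : a.1} {d : IrrCharacter G → ℤ}, Col M u d → ∃ χ : B, Odd (d χ) := by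
    intro u d hd
    exact ⟨⟨χ₁, hχ₁⟩, Cfsg.Agent.H261.KS.odd_of_height_zero hM hmax hcard hab u.2 hχ₁ h1 (hd χ₁ χ₁)⟩
  have heven : ∀ {u : a.1} {d : IrrCharacter G → ℤ}, Col M u d → ∃ χ : B, Even (d χ) := by
    intro u d hd
    exact ⟨⟨χ₀, hχ₀⟩, Cfsg.Agent.H618.KS.even_of_height hM hmax hcard hab u.2 hχ₀ h0 (hd χ₀ χ₀)⟩
  obtain ⟨u, hu⟩ : ∃ u : a.1, u ≠ 1 := by
    by_contra hno
    push Not at hno
    have : Subsingleton a.1 := ⟨fun x y => by rw [hno x, hno y]⟩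
    rw [Nat.card_eq_one_iff_unique.2 ⟨this, ⟨1⟩⟩] at hcard
    norm_num at hcard
  have hcases : Nat.card (autG a) = 15 ∨ Nat.card (autG a) = 5 := by
    obtain ⟨n, hn⟩ : ∃ n, n = Nat.card (autG a) := ⟨_, rfl⟩
    rw [← hn] at h15 h5' ⊢
    have h3 : n ≤ 15 := Nat.le_of_dvd (by norm_num) h15
    interval_cases n <;> omega
  rcases hcases with hE | hE
  · -- one orbit
    obtain ⟨d, hd⟩ := exists_Col hM hmax hab hcard hel hfree hu
    have hdis : ∀ i j : Unit, (fun _ : Unit => u) j ∈ MulAction.orbit (autG a) ((fun _ : Unit => u) i) → i = j :=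
      fun _ _ _ => rfl
    have hcov := fun v : a.1 => Orb.cover hfree hcard (ι := Unit) (u := fun _ => u) (fun _ => hu) hdis
      (by rw [Fintype.card_unit, one_mul, hE]) (v := v)
    obtain ⟨h4, x, hx, hxo⟩ := Cfsg.Agent.H756.KS.end_one (fun χ : B => d χ)
      (fun χ => Col.ne_zero hM hmax hab hd χ.2) (Col.norm hM hmax hab hfree hu hd) (hodd hd) (heven hd)
    exact contra hM hmax hab hcard hpar (fun _ => hu) hcov hdis (d := fun _ => d) (fun _ => hd)
      (fun _ => hx) () h4 hxo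
  · -- three orbits
    obtain ⟨τ, hτ, hτ1⟩ : ∃ τ ∈ autG a, τ ≠ 1 := by
      by_contra hno
      push Not at hno
      have : Subsingleton (autG a) := ⟨fun x y => Subtype.ext (by rw [hno x x.2, hno y y.2])⟩
      rw [Nat.card_eq_one_iff_unique.2 ⟨this, ⟨1⟩⟩] at hE
      norm_num at hE
    have hττ : τ * τ ∈ autG a := (autG a).mul_mem hτ hτ
    have hττ1 : τ * τ ≠ 1 := by
      intro h
      obtain ⟨-, n2, -, -⟩ := Orb.ne_pow hfree hE hτ hτ1 hu
      exact n2 (by rw [← MulAut.mul_apply, h, MulAut.one_apply])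
    have m01 := Orb.mul_notMem hel' hfree hE hτ hτ1 hu
    have m02 : u * τ (τ u) ∉ MulAction.orbit (autG a) u := Orb.mul_notMem hel' hfree hE hττ hττ1 hu
    have m12 := Orb.mul_notMem' hel' hfree hE hτ hτ1 hu
    have hsym : ∀ v w : a.1, v ∉ MulAction.orbit (autG a) w → w ∉ MulAction.orbit (autG a) v := by
      intro v w h h'
      exact h (MulAction.mem_orbit_symm.1 h')
    have hτu : τ u ≠ 1 := fun h => hu (τ.injective (by rw [h, map_one]))
    have hττu : τ (τ u) ≠ 1 := fun h => hτu (τ.injective (by rw [h, map_one]))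
    have hu1 : u * τ u ≠ 1 := by
      intro h
      obtain ⟨n1, -, -, -⟩ := Orb.ne_pow hfree hE hτ hτ1 hu
      apply n1
      calc τ u = (u * u) * τ u := by rw [hel', one_mul]
        _ = u * (u * τ u) := mul_assoc _ _ _
        _ = u := by rw [h, mul_one]
    have hu2 : u * τ (τ u) ≠ 1 := by
      intro h
      obtain ⟨-, n2, -, -⟩ := Orb.ne_pow hfree hE hτ hτ1 hu
      apply n2
      calc τ (τ u) = (u * u) * τ (τ u) := by rw [hel', one_mul]
        _ = u * (u * τ (τ u)) := mul_assoc _ _ _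
        _ = u := by rw [h, mul_one]
    obtain ⟨d₀, hd₀⟩ := exists_Col hM hmax hab hcard hel hfree hu
    obtain ⟨d₁, hd₁⟩ := exists_Col hM hmax hab hcard hel hfree hu1
    obtain ⟨d₂, hd₂⟩ := exists_Col hM hmax hab hcard hel hfree hu2
    obtain ⟨U, hU⟩ : ∃ U : Fin 3 → a.1, U = ![u, u * τ u, u * τ (τ u)] := ⟨_, rfl⟩
    obtain ⟨d, hdd⟩ : ∃ d : Fin 3 → IrrCharacter G → ℤ, d = ![d₀, d₁, d₂] := ⟨_, rfl⟩
    have hU1 : ∀ i, U i ≠ 1 := by
      intro i; subst hU; fin_cases i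
      · exact hu
      · exact hu1
      · exact hu2
    have hdis : ∀ i j, U j ∈ MulAction.orbit (autG a) (U i) → i = j := by
      intro i j; subst hU
      fin_cases i <;> fin_cases j <;> intro h
      · rfl
      · exact absurd h m01
      · exact absurd h m02
      · exact absurd h (hsym _ _ m01)
      · rfl
      · exact absurd h m12
      · exact absurd h (hsym _ _ m02)
      · exact absurd h (hsym _ _ m12)
      · rfl
    have hcov := fun v : a.1 => Orb.cover hfree hcard (ι := Fin 3) (u := U) hU1 hdis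
      (by rw [Fintype.card_fin, hE]) (v := v)
    have hd : ∀ i, Col M (U i) (d i) := by
      intro i; subst hU; subst hdd; fin_cases i
      · exact hd₀
      · exact hd₁
      · exact hd₂
    -- the contributions at `τ u`
    have hct : ∀ (α : MulAut a.1) (_ : α ∈ autG a) (χ ψ : IrrCharacter G),
        ctr 2 ((α u : a.1) : G) (bP 2 M a ((α u : a.1) : G)) (χ : G → ℂ) (ψ : G → ℂ) =
        ctr 2 (u : G) (bP 2 M a (u : G)) (χ : G → ℂ) (ψ : G → ℂ) := fun α hα χ ψ =>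
      ctr_autG hM hmax hab hα u (Core.isIrr_isClassFunction χ.2) (Core.isIrr_isClassFunction ψ.2)
    have htot : ∀ χ ∈ B, ∀ ψ : IrrCharacter G, (if χ = ψ then (1 : ℂ) else 0) =
        ctr 2 ((1 : a.1) : G) (bP 2 M a ((1 : a.1) : G)) (χ : G → ℂ) (ψ : G → ℂ) +
        (ctr 2 (u : G) (bP 2 M a (u : G)) (χ : G → ℂ) (ψ : G → ℂ) +
        ctr 2 ((u * τ u : a.1) : G) (bP 2 M a ((u * τ u : a.1) : G)) (χ : G → ℂ) (ψ : G → ℂ) +
        ctr 2 ((u * τ (τ u) : a.1) : G) (bP 2 M a ((u * τ (τ u) : a.1) : G)) (χ : G → ℂ) (ψ : G → ℂ)) := by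
      intro χ hχ ψ
      have h3 := total hM hmax hab hU1 hcov hdis hχ ψ
      rw [Fin.sum_univ_three] at h3
      subst hU
      exact h3
    have c02 : ∀ χ ψ : B, (4 : ℤ) ∣ d₀ χ * d₀ ψ - d₂ χ * d₂ ψ := by
      intro χ ψ
      obtain ⟨n, hn⟩ := int_four hM hmax hab hcard hel' hfree hE hu hτu hu1 (χ : IrrCharacter G) ψ
      have h3 := htot χ χ.2 ψ
      have e0 := hd₀ χ ψ
      have e1 := hd₁ χ ψ
      have e2 := hd₂ χ ψ
      rw [hct τ hτ] at hn
      have h6 : ((3 * (d₀ χ * d₀ ψ) + 4 * (d₁ χ * d₁ ψ) + 5 * (d₂ χ * d₂ ψ) : ℤ) : ℂ) =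
          ((80 * (if (χ : IrrCharacter G) = ψ then 1 else 0) - 4 * n : ℤ) : ℂ) := by
        rw [Int.cast_add, Int.cast_add, Int.cast_mul, Int.cast_mul 4, Int.cast_mul 5, e0, e1, e2]
        simp only [Int.cast_sub, Int.cast_mul, Int.cast_ofNat, Int.cast_ite, Int.cast_one, Int.cast_zero]
        rw [h3, hn]
        ring
      have h7 : 3 * (d₀ χ * d₀ ψ) + 4 * (d₁ χ * d₁ ψ) + 5 * (d₂ χ * d₂ ψ) =
          80 * (if (χ : IrrCharacter G) = ψ then 1 else 0) - 4 * n := by exact_mod_cast h6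
      split_ifs at h7 <;> omega
    have c01 : ∀ χ ψ : B, (4 : ℤ) ∣ d₀ χ * d₀ ψ - d₁ χ * d₁ ψ := by
      intro χ ψ
      obtain ⟨n, hn⟩ := int_four hM hmax hab hcard hel' hfree hE hu hττu hu2 (χ : IrrCharacter G) ψ
      have h3 := htot χ χ.2 ψ
      have e0 := hd₀ χ ψ
      have e1 := hd₁ χ ψ
      have e2 := hd₂ χ ψ
      have h9 := hct (τ * τ) hττ χ ψ
      rw [MulAut.mul_apply] at h9
      rw [h9] at hn
      have h6 : ((3 * (d₀ χ * d₀ ψ) + 5 * (d₁ χ * d₁ ψ) + 4 * (d₂ χ * d₂ ψ) : ℤ) : ℂ) =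
          ((80 * (if (χ : IrrCharacter G) = ψ then 1 else 0) - 4 * n : ℤ) : ℂ) := by
        rw [Int.cast_add, Int.cast_add, Int.cast_mul, Int.cast_mul 5, Int.cast_mul 4, e0, e1, e2]
        simp only [Int.cast_sub, Int.cast_mul, Int.cast_ofNat, Int.cast_ite, Int.cast_one, Int.cast_zero]
        rw [h3, hn]
        ring
      have h7 : 3 * (d₀ χ * d₀ ψ) + 5 * (d₁ χ * d₁ ψ) + 4 * (d₂ χ * d₂ ψ) =
          80 * (if (χ : IrrCharacter G) = ψ then 1 else 0) - 4 * n := by exact_mod_cast h6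
      split_ifs at h7 <;> omega
    obtain ⟨h4, x, hx0, hx1, hx2, hxo⟩ := Cfsg.Agent.H756.KS.end_three (fun χ : B => d₀ χ) (fun χ : B => d₁ χ)
      (fun χ : B => d₂ χ) (fun χ => Col.ne_zero hM hmax hab hd₀ χ.2)
      (Col.norm hM hmax hab hfree hu hd₀) (Col.norm hM hmax hab hfree hu1 hd₁)
      (Col.norm hM hmax hab hfree hu2 hd₂) (Col.orth hM hmax hab hd₀ hd₁ m01 hne)
      (Col.orth hM hmax hab hd₀ hd₂ m02 hne) (Col.orth hM hmax hab hd₁ hd₂ m12 hne) c01 c02 (hodd hd₀) (heven hd₀)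
    refine contra hM hmax hab hcard hpar hU1 hcov hdis hd (x := x) (fun i => ?_) 0 ?_ ?_
    · subst hdd; fin_cases i
      · exact hx0
      · exact hx1
      · exact hx2
    · subst hdd; exact h4
    · subst hdd; exact hxo

end

/-- **PAFive from HPar.** -/
theorem paFive_of (hpar : Cfsg.Agent.H613.KS.Par.HPar.{u}) : Cfsg.Agent.H613.KS.Par.PAFive.{u} := by
  intro G _ _ M hM B hB D hD hE c hc T hT h5
  have := isPrime_of_isPModular hM
  have := Fintype.ofFinite G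
  have hp2 : Fact (Nat.Prime 2) := ⟨Nat.prime_two⟩
  have hDp : IsPGroup 2 D := IsPGroup.of_card (n := 4) (by rw [hE.card]; norm_num)
  have hpair : IsBrauerPairOf 2 M B D c := (isBrauerPairOf_iff_isInducedBlock hM hB hDp hc.1).2 hc
  have hmax := H644.isMaximalBrauerPair_of_isDefectGroup hM hpair hD
  have hT' : T = stab ⟨D, c⟩ := by
    ext g
    rw [hT, mem_stab, conjIdx_eq_iff hc.1 g]
  have hel' : ∀ x : D, x * x = 1 := fun x => Subtype.ext (hE.inv x x.2)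
  have hab : ∀ x ∈ D, ∀ y ∈ D, x * y = y * x := fun x hx y hy =>
    congrArg Subtype.val (AutNine.comm_of_el hel' ⟨x, hx⟩ ⟨y, hy⟩)
  exact heights_five hM (a := ⟨D, c⟩) hmax hab hE.card hE.inv (hT' ▸ h5)
    (fun x hx hv => hpar hM hB hD hE x hx hv)

end Cfsg.Agent.H696.KS
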